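import Cfsg.Agent.H945.UF.PairU
import Cfsg.Agent.S1159
import Cfsg.Agent.H372.SzSpec
import Cfsg.Agent.OddCyclic.ClaimC.SzIso

/-!
# `PSU_4(q)` by spectrum, cross characteristic: Suzuki groups and Ree groups `²G₂` (helper815, for helper945, S3461)

* `row_Sz`, `row_Ree`.
-/

set_option autoImplicit false

namespace Cfsg.Agent.H815.UF

open Cfsg Cfsg.Agent.H945.UF

/-- the parity facts of the pair lemma: `N` is odd only in the second case -/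
theorem pair_cases {p q T N : ℕ} (h4 : q % 4 = 3) (h : PairOut p q T N) :
    (N % 2 = 0 ∧ 2 * T = 2 * N + 2 ∧ 2 * T = q ^ 2 + 1) ∨ (N % 2 = 1 ∧ 2 * T = q ^ 2 + 1 ∧ 2 * T = 2 * N + q + 1) ∨
    (N % 2 = 0 ∧ ∃ a : ℕ, a % 2 = 1 ∧ 2 * T = a * (q ^ 2 + 1) ∧ 2 * N = a * (q ^ 2 + q)) ∨ (T, N) ∈ excPairs := by
  have h8 : q ^ 2 % 8 = 1 := by
    have h5 : q % 8 = 3 ∨ q % 8 = 7 := by omega
    rcases h5 with h5 | h5 <;> rw [Nat.pow_mod, h5]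
  rcases h with ⟨h1, h2⟩ | ⟨-, h1, h2⟩ | ⟨-, a, ha, h1, h2⟩ | h1
  · left
    omega
  · right; left
    omega
  · right; right; left
    refine ⟨?_, a, ha, h1, h2⟩
    obtain ⟨v, hv⟩ : ∃ v, q = 4 * v + 3 := ⟨q / 4, by omega⟩
    have h3 : q ^ 2 + q = 4 * (4 * v ^ 2 + 7 * v + 3) := by rw [hv]; ring
    rw [h3] at h2
    have h5 : 2 * N = 2 * (2 * (a * (4 * v ^ 2 + 7 * v + 3))) := by rw [h2]; ring
    omega
  · exact Or.inr (Or.inr (Or.inr h1))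

theorem exc_mem {T N : ℕ} (h : (T, N) ∈ excPairs) : (T = 25 ∧ N = 14) ∨ (T = 25 ∧ N = 16) ∨ (T = 75 ∧ N = 56) ∨
    (T = 75 ∧ N = 86) ∨ (T = 61 ∧ N = 44) ∨ (T = 305 ∧ N = 333) ∨ (T = 1629 ∧ N = 1715) ∨ (T = 265 ∧ N = 234) := by
  simpa [excPairs] using h

section

variable {p q : ℕ}

/-- `N` is prime to `M` if it is prime to `T` -/
theorem cop_of {T N : ℕ} (hMT : mm q ∣ T) (h : Nat.Coprime T N) : Nat.Coprime N (mm q) :=
  (Nat.Coprime.coprime_dvd_left hMT h).symm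

theorem coprime_of_comb {T N : ℕ} (a b : ℤ) (h : a * T + b * N = 1) : Nat.Coprime T N := by
  rw [← Nat.isCoprime_iff_coprime]
  exact ⟨a, b, h⟩

/-- **Suzuki groups** -/
theorem row_Sz {S : Type*} [Group S] [Finite S] {p q : ℕ} (_hp2 : p ≠ 2) (h : CandU p q S) :
    ¬ Lie.IsoSuzuki S := by
  intro hS
  obtain ⟨F, _, _, m, hm, hF, ⟨e⟩⟩ := hS
  obtain ⟨i⟩ := Cfsg.Agent.OddCyclic.ClaimC.SzIso.iso hm hF
  have h' : CandU p q (Cfsg.Sz F m) := h.congr (e.trans i.symm)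
  obtain ⟨hs, hA, hB, hC⟩ := Cfsg.Agent.H372.SzSpec.spec (F := F) hm hF
  obtain ⟨w, hw, hw2⟩ : ∃ w, 2 ^ m = w ∧ 2 ≤ w := ⟨2 ^ m, rfl, by
    calc 2 = 2 ^ 1 := by norm_num
      _ ≤ 2 ^ m := Nat.pow_le_pow_right (by norm_num) hm⟩
  have e1 : 2 ^ (2 * m + 1) = 2 * w ^ 2 := by
    rw [← hw, ← pow_mul, pow_succ]
    ring
  have e2 : 2 ^ (m + 1) = 2 * w := by
    rw [← hw]
    ring
  rw [e1, e2] at hs hB hC
  rw [e1] at hA
  have hww : 2 * w ≤ w ^ 2 := by nlinarith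
  obtain ⟨x, hx⟩ := h'.elt'
  have hso := hs x (by rw [hx, Nat.odd_iff]; exact h'.mm_odd)
  rw [hx] at hso
  have hq7 := h.q_ge
  have h4 := h.h4
  have cA : ((2 * w ^ 2 - 1 : ℕ) : ℤ) = 2 * (w : ℤ) ^ 2 - 1 := by
    rw [Nat.cast_sub (by omega)]; push_cast; ring
  have cB : ((2 * w ^ 2 + 2 * w + 1 : ℕ) : ℤ) = 2 * (w : ℤ) ^ 2 + 2 * w + 1 := by push_cast; ring
  have cC : ((2 * w ^ 2 - 2 * w + 1 : ℕ) : ℤ) = 2 * (w : ℤ) ^ 2 - 2 * w + 1 := by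
    rw [Nat.cast_add, Nat.cast_sub (by omega)]; push_cast; ring
  have hwZ : (2 : ℤ) ≤ w := by exact_mod_cast hw2
  have hqZ : (7 : ℤ) ≤ q := by exact_mod_cast hq7
  have hsmall : ∀ {T N : ℕ}, (T, N) ∈ excPairs → N % 2 = 1 → T ≤ 2 * w ^ 2 + 2 * w + 1 →
      2 * w ^ 2 ≤ T + 2 * w + 1 → (w ≤ 45 ∧ ((T = 305 ∧ N = 333) ∨ (T = 1629 ∧ N = 1715))) := by
    intro T N hTN hN h1 h2
    rcases exc_mem hTN with h3 | h3 | h3 | h3 | h3 | h3 | h3 | h3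
    · omega
    · omega
    · omega
    · omega
    · omega
    · refine ⟨?_, Or.inl h3⟩
      by_contra hcon
      have : 46 * w ≤ w ^ 2 := by nlinarith
      omega
    · refine ⟨?_, Or.inr h3⟩
      by_contra hcon
      have : 46 * w ≤ w ^ 2 := by nlinarith
      omega
    · omega
  rcases hso with h1 | h1 | h1
  · -- `T = u - 1`, `N = u - ρ + 1`
    have hcop : Nat.Coprime (2 * w ^ 2 - 1) (2 * w ^ 2 - 2 * w + 1) := by
      refine coprime_of_comb (-(w : ℤ)) (w + 1) ?_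
      rw [cA, cC]; ring
    have h2 := h'.pair hA h1 hC (by omega) (cop_of h1 hcop) (by rw [cA, cC]; nlinarith)
    rcases pair_cases h4 h2 with ⟨h3, -, -⟩ | ⟨-, h3, h5⟩ | ⟨h3, -⟩ | h3
    · omega
    · have h6 : (q : ℤ) = 4 * w - 5 := by
        have : q + 5 = 4 * w := by omega
        omega
      have h7 : (2 * (2 * (w : ℤ) ^ 2 - 1)) = (q : ℤ) ^ 2 + 1 := by
        rw [← cA]; exact_mod_cast h3
      rw [h6] at h7
      have h8 : (3 * (w : ℤ) - 7) * (w - 1) = 0 := by linarith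
      rcases mul_eq_zero.1 h8 with h9 | h9
      · omega
      · omega
    · omega
    · obtain ⟨h5, h6⟩ := hsmall h3 (by omega) (by omega) (by omega)
      interval_cases w <;> omega
  · -- `T = u + ρ + 1`, `N = u - 1`
    have hcop : Nat.Coprime (2 * w ^ 2 + 2 * w + 1) (2 * w ^ 2 - 1) := by
      refine coprime_of_comb (-((w : ℤ) - 1)) w ?_
      rw [cA, cB]; ring
    have h2 := h'.pair hB h1 hA (by omega) (cop_of h1 hcop) (by rw [cA, cB]; nlinarith)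
    rcases pair_cases h4 h2 with ⟨h3, -, -⟩ | ⟨-, h3, h5⟩ | ⟨h3, -⟩ | h3
    · omega
    · have h6 : (q : ℤ) = 4 * w + 3 := by omega
      have h7 : (2 * (2 * (w : ℤ) ^ 2 + 2 * w + 1)) = (q : ℤ) ^ 2 + 1 := by
        rw [← cB]; exact_mod_cast h3
      rw [h6] at h7
      nlinarith
    · omega
    · obtain ⟨h5, h6⟩ := hsmall h3 (by omega) (by omega) (by omega)
      interval_cases w <;> omega
  · -- `T = u - ρ + 1`, `N = u - 1`
    have hcop : Nat.Coprime (2 * w ^ 2 - 2 * w + 1) (2 * w ^ 2 - 1) := by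
      refine coprime_of_comb ((w : ℤ) + 1) (-w) ?_
      rw [cA, cC]; ring
    have h2 := h'.pair hC h1 hA (by omega) (cop_of h1 hcop) (by rw [cA, cC]; nlinarith)
    rcases pair_cases h4 h2 with ⟨h3, -, -⟩ | ⟨-, h3, h5⟩ | ⟨h3, -⟩ | h3
    · omega
    · omega
    · omega
    · obtain ⟨h5, h6⟩ := hsmall h3 (by omega) (by omega) (by omega)
      interval_cases w <;> omega

/-- **Ree groups `²G₂`** -/
theorem row_Ree {S : Type*} [Group S] [Finite S] {p q : ℕ} (_hp3 : p ≠ 3) (h : CandU p q S) :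
    ¬ Lie.IsoRee S := by
  rintro ⟨K, _, _, m, hm, hK, ⟨e⟩⟩
  have h' := h.congr e
  have hsp := S1159.result (K := K) hm hK
  obtain ⟨t, ht, ht3⟩ : ∃ t, 3 ^ m = t ∧ 3 ≤ t := ⟨3 ^ m, rfl, by
    calc 3 = 3 ^ 1 := by norm_num
      _ ≤ 3 ^ m := Nat.pow_le_pow_right (by norm_num) hm⟩
  have e1 : 3 ^ (2 * m + 1) = 3 * t ^ 2 := by
    rw [← ht, ← pow_mul, pow_succ]
    ring
  have e2 : 3 ^ (m + 1) = 3 * t := by
    rw [← ht]
    ring
  have hto : Odd t := by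
    rw [← ht]
    exact (by decide : Odd 3).pow
  rw [e1, e2] at hsp
  have hexi : ∀ d, (d ∣ 6 ∨ d ∣ 9 ∨ d ∣ 3 * t ^ 2 - 1 ∨ d ∣ (3 * t ^ 2 + 1) / 2 ∨ d ∣ 3 * t ^ 2 - 3 * t + 1 ∨
      d ∣ 3 * t ^ 2 + 3 * t + 1) → ∃ g : ↥(Cfsg.Lie.twistedG2 K (3 ^ m)), orderOf g = d := fun d hd => (hsp d).2 hd
  obtain ⟨a, ha⟩ := hto
  have ht2 : t ^ 2 = 4 * a ^ 2 + 4 * a + 1 := by rw [ha]; ring
  have hC := hexi _ (Or.inr (Or.inr (Or.inr (Or.inr (Or.inl dvd_rfl)))))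
  have hB := hexi _ (Or.inr (Or.inr (Or.inr (Or.inr (Or.inr dvd_rfl)))))
  have hA := hexi _ (Or.inr (Or.inr (Or.inl dvd_rfl)))
  have hD := hexi _ (Or.inr (Or.inr (Or.inr (Or.inl dvd_rfl))))
  have htt : 3 * t ≤ t ^ 2 := by nlinarith
  obtain ⟨r, hr, hrn⟩ := h'.exists_prime
  have hBo := h'.B_odd
  have hmm := h'.mm_ge
  have h4 := h.h4
  have hq7 := h.q_ge
  have cA : ((3 * t ^ 2 - 1 : ℕ) : ℤ) = 3 * (t : ℤ) ^ 2 - 1 := by
    rw [Nat.cast_sub (by omega)]; push_cast; ring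
  have cB : ((3 * t ^ 2 + 3 * t + 1 : ℕ) : ℤ) = 3 * (t : ℤ) ^ 2 + 3 * t + 1 := by push_cast; ring
  have cC : ((3 * t ^ 2 - 3 * t + 1 : ℕ) : ℤ) = 3 * (t : ℤ) ^ 2 - 3 * t + 1 := by
    rw [Nat.cast_add, Nat.cast_sub (by omega)]; push_cast; ring
  have htZ : (3 : ℤ) ≤ t := by exact_mod_cast ht3
  have hqZ : (7 : ℤ) ≤ q := by exact_mod_cast hq7
  have hmod : 3 * t ^ 2 % 8 = 3 := by
    have h5 : t % 8 = 1 ∨ t % 8 = 3 ∨ t % 8 = 5 ∨ t % 8 = 7 := by omega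
    have h6 : t ^ 2 % 8 = 1 := by
      rcases h5 with h5 | h5 | h5 | h5 <;> rw [Nat.pow_mod, h5]
    omega
  have hexc : ∀ {T : ℕ}, (T, 3 * t ^ 2 - 1) ∈ excPairs → False := by
    intro T hT
    have hlt : t ≤ 24 := by
      by_contra hcon
      have h5 : 25 * 25 ≤ t ^ 2 := by nlinarith
      rcases exc_mem hT with h3 | h3 | h3 | h3 | h3 | h3 | h3 | h3 <;> omega
    rcases exc_mem hT with h3 | h3 | h3 | h3 | h3 | h3 | h3 | h3 <;> (obtain ⟨-, h3⟩ := h3; interval_cases t <;> omega)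
  rcases (hsp (mm q)).1 h'.elt' with h1 | h1 | h1 | h1 | h1 | h1
  · have := Nat.le_of_dvd (by norm_num) h1
    omega
  · have := Nat.le_of_dvd (by norm_num) h1
    omega
  · have h2 := h'.absN hA hr hrn (hrn.trans h1)
    have h3 : 2 ∣ mm q * ((q - 1) / 2) := dvd_trans ⟨6 * a ^ 2 + 6 * a + 1, by omega⟩ h2
    omega
  · have h2 := h'.absN hD hr hrn (hrn.trans h1)
    have h3 : 2 ∣ mm q * ((q - 1) / 2) := dvd_trans ⟨3 * a ^ 2 + 3 * a + 1, by omega⟩ h2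
    omega
  · -- `T = u - s + 1`, `N = u - 1`
    have hcop : Nat.Coprime (3 * t ^ 2 - 3 * t + 1) (3 * t ^ 2 - 1) := by
      refine coprime_of_comb (3 * (t : ℤ) ^ 2 + 3 * t + 1) (-(3 * (t : ℤ) ^ 2)) ?_
      rw [cA, cC]; ring
    have h2 := h'.pair hC h1 hA (by omega) (cop_of h1 hcop) (by rw [cA, cC]; nlinarith)
    rcases pair_cases h4 h2 with ⟨h3, h5, -⟩ | ⟨h3, -, -⟩ | ⟨-, b, hb, h5, h6⟩ | h3
    · omega
    · omega
    · have h7 : (2 * (3 * (t : ℤ) ^ 2 - 3 * t + 1)) = b * ((q : ℤ) ^ 2 + 1) := by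
        rw [← cC]; exact_mod_cast h5
      have h8 : (2 * (3 * (t : ℤ) ^ 2 - 1)) = b * ((q : ℤ) ^ 2 + q) := by
        rw [← cA]; exact_mod_cast h6
      -- `b q = b + 6 t - 4`
      have h9 : (b : ℤ) * q = b + 6 * t - 4 := by linarith
      have h10 : (b : ℤ) * (2 * (3 * (t : ℤ) ^ 2 - 3 * t + 1)) = (b + 6 * t - 4) ^ 2 + b ^ 2 := by
        rw [h7, ← h9]; ring
      have h11 : ∃ c : ℤ, 2 * (b : ℤ) ^ 2 - b + 1 = 3 * c := by
        refine ⟨2 * b * (t : ℤ) ^ 2 - 6 * b * t + 3 * b - 12 * t ^ 2 + 16 * t - 5, ?_⟩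
        linarith
      obtain ⟨c, hc⟩ := h11
      have h12 : (b : ℤ) % 3 = 0 ∨ (b : ℤ) % 3 = 1 ∨ (b : ℤ) % 3 = 2 := by omega
      have h13 : ∀ z : ℤ, (z % 3 = 0 ∨ z % 3 = 1 ∨ z % 3 = 2) → (2 * z ^ 2 - z + 1) % 3 ≠ 0 := by
        intro z hz
        rcases hz with hz | hz | hz
        · obtain ⟨y, hy⟩ : ∃ y, z = 3 * y := ⟨z / 3, by omega⟩
          have : 2 * z ^ 2 - z + 1 = 3 * (6 * y ^ 2 - y) + 1 := by rw [hy]; ring
          omega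
        · obtain ⟨y, hy⟩ : ∃ y, z = 3 * y + 1 := ⟨z / 3, by omega⟩
          have : 2 * z ^ 2 - z + 1 = 3 * (6 * y ^ 2 + 3 * y) + 2 := by rw [hy]; ring
          omega
        · obtain ⟨y, hy⟩ : ∃ y, z = 3 * y + 2 := ⟨z / 3, by omega⟩
          have : 2 * z ^ 2 - z + 1 = 3 * (6 * y ^ 2 + 7 * y + 2) + 1 := by rw [hy]; ring
          omega
      exact h13 _ h12 (by omega)
    · exact hexc h3
  · -- `T = u + s + 1`, `N = u - 1`
    have hcop : Nat.Coprime (3 * t ^ 2 + 3 * t + 1) (3 * t ^ 2 - 1) := by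
      refine coprime_of_comb (3 * (t : ℤ) ^ 2 - 3 * t + 1) (-(3 * (t : ℤ) ^ 2)) ?_
      rw [cA, cB]; ring
    have h2 := h'.pair hB h1 hA (by omega) (cop_of h1 hcop) (by rw [cA, cB]; nlinarith)
    rcases pair_cases h4 h2 with ⟨h3, h5, -⟩ | ⟨h3, -, -⟩ | ⟨-, b, hb, h5, h6⟩ | h3
    · omega
    · omega
    · have h7 : (2 * (3 * (t : ℤ) ^ 2 + 3 * t + 1)) = b * ((q : ℤ) ^ 2 + 1) := by
        rw [← cB]; exact_mod_cast h5
      have h8 : (2 * (3 * (t : ℤ) ^ 2 - 1)) = b * ((q : ℤ) ^ 2 + q) := by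
        rw [← cA]; exact_mod_cast h6
      have h9 : (b : ℤ) * (q - 1) = -(6 * t + 4) := by linarith
      have h10 : 0 ≤ (b : ℤ) * (q - 1) := mul_nonneg (by positivity) (by linarith)
      linarith
    · exact hexc h3

end

end Cfsg.Agent.H815.UF
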